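/-
A subgroup of index four inside the derived subgroup with elementary abelian abelianisation.
-/
import Mathlib

set_option autoImplicit false

namespace CfsgLib.Classical.SylowTwo

open Pointwise

/-- The statement to prove: Sylow `2`-subgroups of the derived subgroup have elementary abelian
abelianisations. -/
def DerivedSylowElem (G : Type*) [Group G] : Prop :=
  ∀ P : Sylow 2 (commutator G), ∀ x : (P : Subgroup (commutator G)),
    x ^ 2 ∈ commutator (P : Subgroup (commutator G))

theorem sq_mem_of_equiv {A B : Type*} [Group A] [Group B] (e : A ≃* B)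
    (h : ∀ x : A, x ^ 2 ∈ commutator A) (y : B) : y ^ 2 ∈ commutator B := by
  have h' := Subgroup.mem_map_of_mem e.toMonoidHom (h (e.symm y))
  rw [commutator_def, Subgroup.map_commutator,
    Subgroup.map_top_of_surjective e.toMonoidHom e.surjective, map_pow] at h'
  simpa [commutator_def] using h'

theorem sq_mem_of_sylow {H : Type*} [Group H] [Finite H] (K : Subgroup H)
    (hK : Nat.card K = 2 ^ (Nat.card H).factorization 2)
    (h : ∀ x : K, x ^ 2 ∈ commutator K) (P : Sylow 2 H) (x : (P : Subgroup H)) :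
    x ^ 2 ∈ commutator (P : Subgroup H) := by
  have : Fact (Nat.Prime 2) := ⟨Nat.prime_two⟩
  exact sq_mem_of_equiv ((Sylow.ofCard K hK).equiv P) h x

theorem DerivedSylowElem.of_equiv {G G' : Type*} [Group G] [Group G'] [Finite G] (e : G' ≃* G)
    (h : DerivedSylowElem G) : DerivedSylowElem G' := by
  have : Fact (Nat.Prime 2) := ⟨Nat.prime_two⟩
  have : Finite G' := Finite.of_equiv G e.symm.toEquiv
  have hm : (commutator G').map e.toMonoidHom = commutator G := by
    rw [commutator_def, Subgroup.map_commutator,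
      Subgroup.map_top_of_surjective e.toMonoidHom e.surjective, ← commutator_def]
  let c : commutator G' ≃* commutator G :=
    (e.subgroupMap (commutator G')).trans (MulEquiv.subgroupCongr hm)
  intro P x
  let P₀ : Sylow 2 (commutator G) := default
  let K : Subgroup (commutator G') := (P₀ : Subgroup (commutator G)).map c.symm.toMonoidHom
  let f : (P₀ : Subgroup (commutator G)) ≃* K := c.symm.subgroupMap P₀
  refine sq_mem_of_sylow K ?_ (fun y => sq_mem_of_equiv f (fun z => h P₀ z) y) P x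
  rw [← Nat.card_congr f.toEquiv, P₀.card_eq_multiplicity, Nat.card_congr c.toEquiv]

variable {G : Type*} [Group G]

theorem exists_half (a b : G) (ha : a * a = 1) (hb : b * b = 1) (T Gens : Set G) (P : Subgroup G)
    (hP : P ≤ Subgroup.closure Gens) (hTP : ∀ t ∈ T, t ∈ P) (haP : a ∈ P) (hbP : b ∈ P)
    (hT : ∀ t ∈ T, t ∈ commutator G) (hy : (a * b) ^ 2 ∈ T)
    (hsq : ∀ t ∈ T, t ^ 2 = 1 ∨ ∃ x ∈ T, x * t * x⁻¹ = t⁻¹)
    (hgen : ∀ g ∈ Gens, g ∈ T ∨ g * a ∈ T ∨ g * b ∈ T) [Finite G] :
    ∃ K : Subgroup G, K ≤ P ∧ K ≤ commutator G ∧ Nat.card P ≤ 4 * Nat.card K ∧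
      ∀ x : K, x ^ 2 ∈ commutator K := by
  classical
  set J : Subgroup G := Subgroup.closure {a, b}
  set T' : Set G := {g | ∃ h ∈ J, ∃ t ∈ T, g = h * t * h⁻¹}
  set K := Subgroup.closure T' with hKdef
  have hJP : J ≤ P := by
    rw [Subgroup.closure_le]
    rintro _ (rfl | rfl) <;> assumption
  have hTT : T ⊆ T' := fun t ht => ⟨1, one_mem _, t, ht, by simp⟩
  have hTK : ∀ t ∈ T, t ∈ K := fun t ht => Subgroup.subset_closure (hTT ht)
  have hconj : ∀ h ∈ J, ∀ k ∈ K, h * k * h⁻¹ ∈ K := by
    intro h hh k hk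
    have h' := Subgroup.mem_map_of_mem (MulAut.conj h).toMonoidHom hk
    rw [hKdef, MonoidHom.map_closure] at h'
    refine Subgroup.closure_mono ?_ h'
    rintro _ ⟨_, ⟨g, hg, t, ht, rfl⟩, rfl⟩
    refine ⟨h * g, mul_mem hh hg, t, ht, ?_⟩
    show h * (g * t * g⁻¹) * h⁻¹ = _
    group
  refine ⟨K, ?_, ?_, ?_, ?_⟩
  · rw [Subgroup.closure_le]
    rintro _ ⟨h, hh, t, ht, rfl⟩
    exact mul_mem (mul_mem (hJP hh) (hTP t ht)) (inv_mem (hJP hh))
  · rw [Subgroup.closure_le]
    rintro _ ⟨h, -, t, ht, rfl⟩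
    exact (inferInstance : (commutator G).Normal).conj_mem t (hT t ht) h
  · -- four cosets
    set N := J.subgroupOf (Subgroup.normalizer (K : Set G))
    have hJN : J ≤ Subgroup.normalizer (K : Set G) := fun h hh =>
      Subgroup.mem_normalizer_iff.mpr fun k => ⟨hconj h hh k, fun hk => by
        have := hconj h⁻¹ (inv_mem hh) _ hk
        simpa [mul_assoc] using this⟩
    have hba : b * a ∈ (K : Set G) * {a * b} := by
      refine ⟨((a * b) ^ 2)⁻¹, inv_mem (hTK _ hy), a * b, rfl, ?_⟩
      show ((a * b) ^ 2)⁻¹ * (a * b) = b * a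
      rw [sq, mul_inv_rev, inv_mul_cancel_right, mul_inv_rev, inv_eq_of_mul_eq_one_right hb,
        inv_eq_of_mul_eq_one_right ha]
    let R : Fin 4 → G := ![1, a, b, a * b]
    let S : Set G := {g | ∃ k ∈ K, ∃ i, g = k * R i}
    have hcl : ∀ g ∈ S, g * a ∈ S ∧ g * b ∈ S := by
      obtain ⟨k₀, hk₀, -, rfl, hk₀'⟩ := hba
      change k₀ * (a * b) = b * a at hk₀'
      rintro _ ⟨k, hk, i, rfl⟩
      fin_cases i
      · exact ⟨⟨k, hk, 1, by simp [R]⟩, ⟨k, hk, 2, by simp [R]⟩⟩
      · exact ⟨⟨k, hk, 0, by simp [R, mul_assoc, ha]⟩, ⟨k, hk, 3, by simp [R, mul_assoc]⟩⟩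
      · refine ⟨⟨k * k₀, mul_mem hk hk₀, 3, ?_⟩, ⟨k, hk, 0, by simp [R, mul_assoc, hb]⟩⟩
        simp [R, mul_assoc, hk₀']
      · refine ⟨⟨k * (a * k₀ * a⁻¹), mul_mem hk (hconj a (Subgroup.subset_closure (by simp)) _ hk₀),
          2, ?_⟩, ⟨k, hk, 1, by simp [R, mul_assoc, hb]⟩⟩
        show k * (a * b) * a = k * (a * k₀ * a⁻¹) * b
        rw [mul_assoc k (a * b), mul_assoc a b, ← hk₀', inv_eq_of_mul_eq_one_right ha]
        simp only [mul_assoc]
    have hclK : ∀ g ∈ S, ∀ k ∈ K, g * k ∈ S := by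
      rintro _ ⟨k, hk, i, rfl⟩ k' hk'
      have hR : R i ∈ J := by
        fin_cases i
        · exact one_mem _
        · exact Subgroup.subset_closure (by simp [R])
        · exact Subgroup.subset_closure (by simp [R])
        · exact mul_mem (Subgroup.subset_closure (by simp)) (Subgroup.subset_closure (by simp))
      exact ⟨k * (R i * k' * (R i)⁻¹), mul_mem hk (hconj _ hR _ hk'), i, by group⟩
    have hPS : (P : Set G) ⊆ S := by
      intro x hx
      have hx' := hP hx
      suffices H : (∀ g ∈ S, g * x ∈ S) ∧ ∀ g ∈ S, g * x⁻¹ ∈ S by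
        simpa using H.1 1 ⟨1, one_mem _, 0, by simp [R]⟩
      clear hx
      induction hx' using Subgroup.closure_induction with
      | one => simp
      | inv y _ ih => exact ⟨ih.2, by simpa using ih.1⟩
      | mul y z _ _ ihy ihz =>
        exact ⟨fun g hg => mul_assoc g y z ▸ ihz.1 _ (ihy.1 g hg),
          fun g hg => by rw [mul_inv_rev, ← mul_assoc]; exact ihy.2 _ (ihz.2 g hg)⟩
      | mem y hy' =>
        rcases hgen y hy' with h | h | h
        · exact ⟨fun g hg => hclK g hg y (hTK _ h), fun g hg => hclK g hg _ (inv_mem (hTK _ h))⟩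
        · refine ⟨fun g hg => ?_, fun g hg => ?_⟩
          · have := (hcl _ (hclK g hg _ (hTK _ h))).1
            rwa [mul_assoc, mul_assoc y, ha, mul_one] at this
          · have := hclK _ (hcl g hg).1 _ (inv_mem (hTK _ h))
            rwa [mul_inv_rev, ← mul_assoc, mul_assoc g a, mul_inv_cancel, mul_one] at this
        · refine ⟨fun g hg => ?_, fun g hg => ?_⟩
          · have := (hcl _ (hclK g hg _ (hTK _ h))).2
            rwa [mul_assoc, mul_assoc y, hb, mul_one] at this
          · have := hclK _ (hcl g hg).2 _ (inv_mem (hTK _ h))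
            rwa [mul_inv_rev, ← mul_assoc, mul_assoc g b, mul_inv_cancel, mul_one] at this
    calc Nat.card P ≤ Nat.card (Fin 4 × K) := by
          refine Nat.card_le_card_of_injective (fun x : P =>
            ((hPS x.2).choose_spec.2.choose, ⟨(hPS x.2).choose, (hPS x.2).choose_spec.1⟩)) ?_
          intro x y h
          simp only [Prod.mk.injEq, Subtype.mk.injEq] at h
          refine Subtype.ext ?_
          rw [(hPS x.2).choose_spec.2.choose_spec, (hPS y.2).choose_spec.2.choose_spec, h.1, h.2]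
      _ = 4 * Nat.card K := by simp
  · -- squares
    let φ : K →* Abelianization K := (powMonoidHom 2).comp Abelianization.of
    suffices hle : (⊤ : Subgroup K) ≤ φ.ker by
      intro x
      rw [← Abelianization.ker_of, MonoidHom.mem_ker, map_pow]
      exact MonoidHom.mem_ker.mp (hle (Subgroup.mem_top x))
    rw [← Subgroup.closure_closure_coe_preimage (k := T'), Subgroup.closure_le]
    intro y hy'
    show (Abelianization.of y) ^ 2 = 1
    obtain ⟨h, hh, t, ht, e⟩ : (y : G) ∈ T' := hy'
    rcases hsq t ht with h1 | ⟨x, hx, h1⟩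
    · rw [← map_pow, show y ^ 2 = 1 from Subtype.ext (by
        rw [Subgroup.coe_pow, e, conj_pow, h1]; simp), map_one]
    · let x' : K := ⟨h * x * h⁻¹, Subgroup.subset_closure ⟨h, hh, x, hx, rfl⟩⟩
      have hxy : x' * y * x'⁻¹ = y⁻¹ := Subtype.ext (by
        push_cast
        rw [e, show h * x * h⁻¹ * (h * t * h⁻¹) * (h * x * h⁻¹)⁻¹ = h * (x * t * x⁻¹) * h⁻¹ by group,
          h1]
        group)
      have := congrArg Abelianization.of hxy
      rw [map_mul, map_mul, map_inv, map_inv, mul_comm (Abelianization.of x'),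
        mul_inv_cancel_right] at this
      rw [sq]
      exact mul_eq_one_iff_eq_inv.mpr this

theorem derivedSylowElem_of_half [Finite G] {v : ℕ} (P : Subgroup G) (hP : Nat.card P = 2 ^ v)
    (hG : (Nat.card G).factorization 2 = v) (hidx : (commutator G).index = 4)
    {K : Subgroup G} (hKP : K ≤ P) (hKD : K ≤ commutator G)
    (hle : Nat.card P ≤ 4 * Nat.card K) (hsq : ∀ x : K, x ^ 2 ∈ commutator K) :
    DerivedSylowElem G := by
  have : Fact (Nat.Prime 2) := ⟨Nat.prime_two⟩
  obtain ⟨j, -, hj⟩ := (Nat.dvd_prime_pow Nat.prime_two).mp (hP ▸ Subgroup.card_dvd_of_le hKP)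
  have hD : (Nat.card (commutator G)).factorization 2 + 2 = v := by
    have h := Subgroup.card_mul_index (commutator G)
    rw [hidx] at h
    rw [← hG, ← h, Nat.factorization_mul Nat.card_pos.ne' (by norm_num), Finsupp.add_apply,
      show (4 : ℕ) = 2 ^ 2 by norm_num, Nat.Prime.factorization_pow Nat.prime_two,
      Finsupp.single_eq_same]
  have h1 : j ≤ (Nat.card (commutator G)).factorization 2 :=
    (Nat.Prime.pow_dvd_iff_le_factorization Nat.prime_two Nat.card_pos.ne').mp
      (hj ▸ Subgroup.card_dvd_of_le hKD)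
  have h2 : v ≤ j + 2 := by
    rw [hP, hj, show 4 * 2 ^ j = 2 ^ (j + 2) by ring] at hle
    exact (Nat.pow_le_pow_iff_right (by norm_num)).mp hle
  intro Q x
  let f : K.subgroupOf (commutator G) ≃* K := Subgroup.subgroupOfEquivOfLe hKD
  refine sq_mem_of_sylow (K.subgroupOf (commutator G)) ?_
    (fun y => sq_mem_of_equiv f.symm hsq y) Q x
  rw [Nat.card_congr f.toEquiv, hj]
  congr 1
  omega

end CfsgLib.Classical.SylowTwo
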