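/-
A rotation of maximal 2-power order in the orthogonal group of `x² + y²`.
-/
import Cfsg.Agent.Lib.Classical.QuadSpace
import Cfsg.Agent.Lib.Classical.QuadReflect
import Cfsg.Agent.Lib.Classical.FiniteFieldSq
import Mathlib.Algebra.QuadraticAlgebra.Basic

set_option autoImplicit false

namespace CfsgLib.Classical.SylowTwo

universe u

variable (F : Type u) [Field F]

/-- `x² + y²`. -/
def sumSq2 : QuadraticForm F (Fin 2 → F) := QuadraticMap.proj 0 0 + QuadraticMap.proj 1 1

variable {F}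

theorem sumSq2_apply (x : Fin 2 → F) : sumSq2 F x = x 0 * x 0 + x 1 * x 1 := by
  simp [sumSq2]

theorem polar_sumSq2 (x y : Fin 2 → F) :
    QuadraticMap.polar (sumSq2 F) x y = 2 * (x 0 * y 0 + x 1 * y 1) := by
  simp [QuadraticMap.polar, sumSq2_apply]
  ring

/-- The first basis vector. -/
abbrev e0 : Fin 2 → F := ![1, 0]

theorem sumSq2_e0 : sumSq2 F (e0 : Fin 2 → F) = 1 := by simp [sumSq2_apply]

theorem sumSq2_e0_ne : sumSq2 F (e0 : Fin 2 → F) ≠ 0 := sumSq2_e0 (F := F) ▸ one_ne_zero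

/-- The reflection `(x, y) ↦ (-x, y)`. -/
noncomputable def refl0 : qAut (sumSq2 F) := qRefl _ sumSq2_e0_ne

theorem refl0_apply (h2 : (2 : F) ≠ 0) (x : Fin 2 → F) :
    (refl0 (F := F)).1 x = ![-x 0, x 1] := by
  rw [refl0, qRefl_apply, sumSq2_e0, polar_sumSq2]
  funext r
  fin_cases r <;> simp
  ring

theorem sumSq2_vec {A B : F} (h : A * A + B * B = 1) :
    sumSq2 F ![1 + A, -B] = 2 * (1 + A) := by
  simp [sumSq2_apply]
  linear_combination h

/-- The composite of two reflections is a rotation. -/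
theorem refl0_mul_apply (h2 : (2 : F) ≠ 0) {A B : F} (h : A * A + B * B = 1)
    (hv : sumSq2 F ![1 + A, -B] ≠ 0) (x : Fin 2 → F) :
    (refl0 * qRefl _ hv).1 x = ![A * x 0 - B * x 1, B * x 0 + A * x 1] := by
  have hA : 2 * (1 + A) ≠ 0 := sumSq2_vec h ▸ hv
  have hA' : 1 + A ≠ 0 := right_ne_zero_of_mul hA
  rw [qAut_mul_apply, refl0_apply h2, qRefl_apply, polar_sumSq2, sumSq2_vec h]
  funext r
  fin_cases r <;> simp <;> field_simp
  · ring
  · linear_combination -x 1 * h

section Powers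

variable {R : Type u} [CommRing R] [Algebra F R]

theorem rot_pow_eq_one_iff (h2 : (2 : F) ≠ 0) {A B : F} (h : A * A + B * B = 1)
    (hv : sumSq2 F ![1 + A, -B] ≠ 0) {j : R} (hj : j * j = -1)
    (hinj : ∀ x y : F, algebraMap F R x + algebraMap F R y * j = 0 → x = 0 ∧ y = 0) (n : ℕ) :
    (refl0 * qRefl _ hv) ^ n = 1 ↔ (algebraMap F R A + algebraMap F R B * j) ^ n = 1 := by
  set g := refl0 * qRefl _ hv
  let φ : (Fin 2 → F) → R := fun x => algebraMap F R (x 0) + algebraMap F R (x 1) * j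
  have hφ : ∀ x, φ (g.1 x) = (algebraMap F R A + algebraMap F R B * j) * φ x := fun x => by
    simp only [φ, g, refl0_mul_apply h2 h hv]
    simp only [Matrix.cons_val_zero, Matrix.cons_val_one, map_sub, map_add, map_mul]
    linear_combination -(algebraMap F R B * algebraMap F R (x 1)) * hj
  have hφn : ∀ n x, φ ((g ^ n).1 x) = (algebraMap F R A + algebraMap F R B * j) ^ n * φ x := by
    intro n
    induction n with
    | zero => intro x; simp
    | succ n ih => intro x; rw [pow_succ', qAut_mul_apply, hφ, ih, pow_succ']; ring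
  constructor
  · intro hn
    have := hφn n e0
    rw [hn] at this
    simpa [φ] using this.symm
  · intro hn
    refine qAut_ext fun x => ?_
    have := hφn n x
    rw [hn, one_mul] at this
    obtain ⟨h0, h1⟩ := hinj ((g ^ n).1 x 0 - x 0) ((g ^ n).1 x 1 - x 1) (by
      simp only [φ] at this
      rw [map_sub, map_sub]
      linear_combination this)
    funext r
    fin_cases r
    · simpa using sub_eq_zero.mp h0
    · simpa using sub_eq_zero.mp h1

end Powers

/-- A 2-element that is not a square. -/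
theorem exists_two_elt {L : Type*} [Field L] [Fintype L] (h2 : (2 : L) ≠ 0) {t : L}
    (ht : ¬ IsSquare t) : ∃ (e m : ℕ), Odd m ∧ 1 ≤ e ∧ padicValNat 2 (Fintype.card L - 1) = e ∧
      ((t ^ m) ^ 2 ^ e = 1 ∧ (t ^ m) ^ 2 ^ (e - 1) ≠ 1) ∧ ¬ IsSquare (t ^ m) := by
  have : Fact (Nat.Prime 2) := ⟨Nat.prime_two⟩
  have hchar : ringChar L ≠ 2 := fun h => h2 (by
    haveI : CharP L 2 := h ▸ ringChar.charP L
    exact CharTwo.two_eq_zero)
  have ht0 : t ≠ 0 := by rintro rfl; exact ht IsSquare.zero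
  have hodd := FiniteField.odd_card_of_char_ne_two hchar
  have hq : 1 < Fintype.card L := Fintype.one_lt_card
  obtain ⟨e, m, hm, hem⟩ := Nat.exists_eq_pow_mul_and_not_dvd
    (show Fintype.card L - 1 ≠ 0 by omega) 2 (by norm_num)
  have he : 1 ≤ e := by
    by_contra hc
    obtain rfl : e = 0 := by omega
    simp at hem
    omega
  have hmodd : Odd m := Nat.not_even_iff_odd.mp fun h => hm h.two_dvd
  refine ⟨e, m, hmodd, he, ?_, ⟨?_, ?_⟩, ?_⟩
  · rw [hem, padicValNat.mul (by positivity) (by rintro rfl; simp at hm),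
      padicValNat.prime_pow, padicValNat.eq_zero_of_not_dvd hm, add_zero]
  · rw [← pow_mul, mul_comm, ← hem, FiniteField.pow_card_sub_one_eq_one t ht0]
  · rw [← pow_mul]
    intro h
    refine ht ((FiniteField.isSquare_iff hchar ht0).mpr ?_)
    have hd : Fintype.card L / 2 = m * 2 ^ (e - 1) := by
      have : 2 ^ e * m = 2 * (m * 2 ^ (e - 1)) := by
        rw [show e = e - 1 + 1 by omega, pow_succ, Nat.add_sub_cancel]
        ring
      omega
    rw [hd]
    exact h
  · obtain ⟨k, rfl⟩ := hmodd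
    intro h
    refine ht ?_
    have hs : IsSquare (t ^ (2 * k))⁻¹ := ⟨(t ^ k)⁻¹, by rw [← mul_inv, ← pow_add, two_mul]⟩
    have := h.mul hs
    rwa [pow_succ, mul_right_comm, mul_inv_cancel₀ (pow_ne_zero _ ht0), one_mul] at this

variable [Fintype F]

theorem exists_rot (h2 : (2 : F) ≠ 0) :
    ∃ (A B : F) (σ : ℕ) (hv : sumSq2 F ![1 + A, -B] ≠ 0), A * A + B * B = 1 ∧
      ¬ IsSquare (2 * (1 + A)) ∧
      padicValNat 2 (Fintype.card F * Fintype.card F - 1) = σ + 1 ∧
      orderOf (refl0 * qRefl _ hv) = 2 ^ σ := by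
  classical
  have : Fact (Nat.Prime 2) := ⟨Nat.prime_two⟩
  have hchar : ringChar F ≠ 2 := fun h => h2 (by
    haveI : CharP F 2 := h ▸ ringChar.charP F
    exact CharTwo.two_eq_zero)
  have hodd := FiniteField.odd_card_of_char_ne_two hchar
  have hq : 1 < Fintype.card F := Fintype.one_lt_card
  suffices H : ∃ (A B : F) (σ : ℕ) (hv : sumSq2 F ![1 + A, -B] ≠ 0), A * A + B * B = 1 ∧
      ¬ IsSquare (2 * (1 + A)) ∧
      padicValNat 2 (Fintype.card F * Fintype.card F - 1) = σ + 1 ∧ 1 ≤ σ ∧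
      (refl0 * qRefl _ hv) ^ 2 ^ σ = 1 ∧ (refl0 * qRefl _ hv) ^ 2 ^ (σ - 1) ≠ 1 by
    obtain ⟨A, B, σ, hv, h1, h3, h4, h5, h6, h7⟩ := H
    refine ⟨A, B, σ, hv, h1, h3, h4, ?_⟩
    obtain ⟨s, rfl⟩ : ∃ s, σ = s + 1 := ⟨σ - 1, by omega⟩
    exact orderOf_eq_prime_pow (by simpa using h7) h6
  by_cases hi : IsSquare (-1 : F)
  · obtain ⟨i, hi⟩ := hi
    obtain ⟨t, ht⟩ := FiniteField.exists_nonsquare hchar
    obtain ⟨e, m, -, he, hv2, ⟨hu1, hu2⟩, hu3⟩ := exists_two_elt h2 ht
    set u := t ^ m with hu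
    have hu0 : u ≠ 0 := by
      intro h; exact hu3 (h ▸ IsSquare.zero)
    have hi0 : i ≠ 0 := by rintro rfl; simp at hi
    set A := (u + u⁻¹) / 2 with hA
    set B := (u - u⁻¹) / (2 * i) with hB
    have hAB : A * A + B * B = 1 := by
      rw [hA, hB]; field_simp
      linear_combination (u ^ 2 - 1) ^ 2 * hi.symm
    have hns : ¬ IsSquare (2 * (1 + A)) := by
      have he1 : 2 * (1 + A) = (u + 1) * (u + 1) * u⁻¹ := by
        rw [hA]; field_simp; ring
      have hu1' : u + 1 ≠ 0 := by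
        intro h
        exact hu3 ⟨i, by rw [← hi]; linear_combination h⟩
      rw [he1]
      intro h
      refine hu3 ?_
      have h' := (h.mul (⟨(u + 1)⁻¹, rfl⟩ : IsSquare ((u + 1)⁻¹ * (u + 1)⁻¹))).mul
        (⟨u, rfl⟩ : IsSquare (u * u))
      rwa [show (u + 1) * (u + 1) * u⁻¹ * ((u + 1)⁻¹ * (u + 1)⁻¹) * (u * u) = u by field_simp] at h'
    have hv : sumSq2 F ![1 + A, -B] ≠ 0 := by
      rw [sumSq2_vec hAB]; exact fun h => hns (h ▸ IsSquare.zero)
    have key := rot_pow_eq_one_iff (R := F × F) h2 hAB hv (j := (i, -i))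
      (by ext <;> simp [← hi]) (fun x y h => by
        have e1 : x + y * i = 0 := by simpa using congrArg Prod.fst h
        have e2 : x + -(y * i) = 0 := by simpa using congrArg Prod.snd h
        have hx : 2 * x = 0 := by linear_combination e1 + e2
        have hy : 2 * (y * i) = 0 := by linear_combination e1 - e2
        exact ⟨(mul_eq_zero.mp hx).resolve_left h2,
          (mul_eq_zero.mp ((mul_eq_zero.mp hy).resolve_left h2)).resolve_right hi0⟩)
    have hz : algebraMap F (F × F) A + algebraMap F (F × F) B * (i, -i) = (u, u⁻¹) := by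
      ext <;> simp [hA, hB] <;> field_simp <;> ring
    have hq4 : Fintype.card F % 4 = 1 := by
      have := FiniteField.isSquare_neg_one_iff.mp ⟨i, hi⟩
      omega
    refine ⟨A, B, e, hv, hAB, hns, ?_, he, ?_, ?_⟩
    · rw [show Fintype.card F * Fintype.card F - 1 = (Fintype.card F - 1) * (Fintype.card F + 1) by
        rw [mul_comm (Fintype.card F - 1), ← Nat.sq_sub_sq]; simp [sq],
        padicValNat.mul (by omega) (by omega), hv2]
      congr 1
      obtain ⟨c, hc⟩ : ∃ c, Fintype.card F + 1 = 2 * (2 * c + 1) := ⟨Fintype.card F / 4, by omega⟩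
      rw [hc, padicValNat.mul (by norm_num) (by omega), padicValNat.self (by norm_num),
        padicValNat.eq_zero_of_not_dvd (by omega)]
    · rw [key, hz, Prod.pow_mk, inv_pow, hu1, inv_one]; rfl
    · rw [Ne, key, hz, Prod.pow_mk]
      exact fun h => hu2 (congrArg Prod.fst h)
  · haveI : Fact (∀ r : F, r ^ 2 ≠ (-1 : F) + 0 * r) :=
      ⟨fun r hr => hi ⟨r, by linear_combination -hr⟩⟩
    haveI : Fintype (QuadraticAlgebra F (-1 : F) 0) := Fintype.ofEquiv _ (QuadraticAlgebra.linearEquivTuple (-1 : F) 0).toEquiv.symm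
    have hK : Fintype.card (QuadraticAlgebra F (-1 : F) 0) = Fintype.card F * Fintype.card F := by
      rw [Fintype.card_congr (QuadraticAlgebra.linearEquivTuple (-1 : F) 0).toEquiv, Fintype.card_fun,
        Fintype.card_fin, sq]
    have h2K : (2 : (QuadraticAlgebra F (-1 : F) 0)) ≠ 0 := by
      intro h
      have := congrArg QuadraticAlgebra.re h
      simp at this
      exact h2 this
    obtain ⟨a, b, hab⟩ := exists_sq_add_sq h2 (-1 : F)
    have hnorm : ∀ z : (QuadraticAlgebra F (-1 : F) 0), z.norm = z.re * z.re + z.im * z.im := fun z => by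
      rw [QuadraticAlgebra.norm_def]; ring
    have hw : ¬ IsSquare (⟨a, b⟩ : (QuadraticAlgebra F (-1 : F) 0)) := by
      rintro ⟨z, hz⟩
      refine hi ⟨z.norm, ?_⟩
      rw [← map_mul, ← hz, hnorm]
      linear_combination -hab
    obtain ⟨e, m, hm, he, hv2, ⟨hw1, hw2⟩, -⟩ := exists_two_elt h2K hw
    set w : QuadraticAlgebra F (-1 : F) 0 := (⟨a, b⟩ : (QuadraticAlgebra F (-1 : F) 0)) ^ m with hwdef
    have hwn : w.norm = -1 := by
      rw [hwdef, map_pow, hnorm, show a * a + b * b = -1 by linear_combination hab, hm.neg_one_pow]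
    rw [hnorm] at hwn
    set A := (w * w).re with hA
    set B := (w * w).im with hB
    have hA' : A = w.re * w.re - w.im * w.im := by simp [hA]; ring
    have hB' : B = 2 * (w.re * w.im) := by simp [hB]; ring
    have hAB : A * A + B * B = 1 := by
      rw [hA', hB']; linear_combination (w.re * w.re + w.im * w.im - 1) * hwn
    have hns : ¬ IsSquare (2 * (1 + A)) := by
      have he1 : 2 * (1 + A) = -(2 * w.im) * (2 * w.im) := by
        rw [hA']; linear_combination 2 * hwn
      have hy : w.im ≠ 0 := by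
        intro h
        rw [h] at hwn
        exact hi ⟨w.re, by linear_combination -hwn⟩
      rw [he1]
      intro h
      refine hi ?_
      have h' := h.mul (⟨(2 * w.im)⁻¹, rfl⟩ : IsSquare ((2 * w.im)⁻¹ * (2 * w.im)⁻¹))
      rwa [show -(2 * w.im) * (2 * w.im) * ((2 * w.im)⁻¹ * (2 * w.im)⁻¹) = -1 by
        field_simp] at h'
    have hv : sumSq2 F ![1 + A, -B] ≠ 0 := by
      rw [sumSq2_vec hAB]; exact fun h => hns (h ▸ IsSquare.zero)
    have key := rot_pow_eq_one_iff (R := (QuadraticAlgebra F (-1 : F) 0)) h2 hAB hv (j := (⟨0, 1⟩ : (QuadraticAlgebra F (-1 : F) 0)))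
      (by ext <;> simp [QuadraticAlgebra.re_one, QuadraticAlgebra.im_one]) (fun x y h => by
        have e1 := congrArg QuadraticAlgebra.re h
        have e2 := congrArg QuadraticAlgebra.im h
        simp at e1 e2
        exact ⟨e1, e2⟩)
    have hz : algebraMap F (QuadraticAlgebra F (-1 : F) 0) A + algebraMap F (QuadraticAlgebra F (-1 : F) 0) B * (⟨0, 1⟩ : (QuadraticAlgebra F (-1 : F) 0)) = w * w := by
      ext <;> simp [hA, hB]
    rw [hK] at hv2
    have he2 : 2 ≤ e := by
      rw [← hv2]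
      refine (padicValNat_dvd_iff_le (by
        have := Nat.le_mul_self (Fintype.card F); omega)).mp ?_
      obtain ⟨c, hc⟩ : ∃ c, Fintype.card F = 2 * c + 1 := ⟨Fintype.card F / 2, by omega⟩
      exact ⟨c * c + c, by rw [hc]; ring_nf; omega⟩
    refine ⟨A, B, e - 1, hv, hAB, hns, by omega, by omega, ?_, ?_⟩
    · rw [key, hz, ← sq, ← pow_mul, ← pow_succ', show e - 1 + 1 = e by omega, hw1]
    · rw [Ne, key, hz, ← sq, ← pow_mul, ← pow_succ', show e - 1 - 1 + 1 = e - 1 by omega]
      exact hw2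

end CfsgLib.Classical.SylowTwo
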