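/-
Sylow 2-subgroups in a diagonal model of the orthogonal groups in odd characteristic.
-/
import Cfsg.Agent.Lib.Classical.SylowTwo.Rotation
import Cfsg.Agent.Lib.Classical.SylowTwo.Abstract
import Cfsg.Agent.Lib.Classical.QuadOmega
import Cfsg.Agent.Lib.SymSylow.Gen

set_option autoImplicit false

namespace CfsgLib.Classical.SylowTwo

universe u

variable {F : Type u} [Field F]

section Pair

variable {V : Type*} [AddCommGroup V] [Module F V] (Q : QuadraticForm F V)

/-- Two reflections along vectors with the same value multiply into the derived subgroup. -/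
theorem refl_pair_mem (h2 : (2 : F) ≠ 0) {u w : V} (hu : Q u ≠ 0) (hw : Q w ≠ 0) (h : Q u = Q w) :
    qRefl Q hu * qRefl Q hw ∈ commutator (qAut Q) := by
  obtain ⟨g, t, ht, hg⟩ : ∃ (g : qAut Q) (t : F), t ≠ 0 ∧ g.1 u = t • w := by
    by_cases h1 : Q (u - w) = 0
    · have h' : Q (u - -w) ≠ 0 := by
        rw [sub_neg_eq_add]
        intro h'
        have : 2 * (2 * Q u) = 0 := by
          rw [quad_add] at h'; rw [quad_sub] at h1
          linear_combination h' + h1 + (2 : F) * h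
        exact hu ((mul_eq_zero.mp ((mul_eq_zero.mp this).resolve_left h2)).resolve_left h2)
      exact ⟨qRefl Q h', -1, neg_ne_zero.mpr one_ne_zero,
        by rw [qRefl_exchange Q (by rw [QuadraticMap.map_neg, h]) h', neg_one_smul]⟩
    · exact ⟨qRefl Q h1, 1, one_ne_zero, by rw [qRefl_exchange Q h h1, one_smul]⟩
  have hgu : Q (g.1 u) ≠ 0 := (qAut_map g u).symm ▸ hu
  have e : qRefl Q hw = g * qRefl Q hu * g⁻¹ := by
    rw [qRefl_conj Q g hu hgu]
    have htw : Q (t • w) ≠ 0 := hg ▸ hgu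
    have : qRefl Q hgu = qRefl Q htw := by congr 1
    rw [this, qRefl_smul]
  rw [e]
  have := Subgroup.commutator_mem_commutator (H₁ := ⊤) (H₂ := ⊤)
    (Subgroup.mem_top (qRefl Q hu)) (Subgroup.mem_top g)
  rw [commutatorElement_def, qRefl_inv] at this
  have h' : qRefl Q hu * (g * qRefl Q hu * g⁻¹) = qRefl Q hu * g * qRefl Q hu * g⁻¹ := by group
  rw [h']
  exact this

end Pair

variable (k s : ℕ)

/-- Coordinates: `k` planes and `s` lines. -/
abbrev Coord : Type := (Fin k × Fin 2) ⊕ Fin s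

variable {s} (d : Fin s → F)

/-- The weights. -/
def coef : Coord k s → F := Sum.elim (fun _ => 1) d

/-- The diagonal model. -/
def modelQ : QuadraticForm F (Coord k s → F) := QuadraticMap.weightedSumSquares F (coef k d)

variable {k}

/-- The `i`-th plane. -/
def blkAt (i : Fin k) : (Coord k s → F) →ₗ[F] (Fin 2 → F) :=
  LinearMap.funLeft F F fun r => Sum.inl (i, r)

theorem blkAt_apply (i : Fin k) (v : Coord k s → F) (r : Fin 2) :
    blkAt i v r = v (Sum.inl (i, r)) := rfl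

theorem modelQ_apply (v : Coord k s → F) :
    modelQ k d v = (∑ i, sumSq2 F (blkAt i v)) + ∑ j, d j * (v (Sum.inr j) * v (Sum.inr j)) := by
  simp [modelQ, QuadraticMap.weightedSumSquares_apply, coef, Fintype.sum_sum_type,
    Fintype.sum_prod_type, sumSq2_apply, blkAt_apply, Fin.sum_univ_two]

theorem polar_modelQ (x y : Coord k s → F) :
    QuadraticMap.polar (modelQ k d) x y = ∑ i, 2 * (coef k d i * (x i * y i)) := by
  simp only [QuadraticMap.polar, modelQ, QuadraticMap.weightedSumSquares_apply, smul_eq_mul,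
    ← Finset.sum_sub_distrib]
  refine Finset.sum_congr rfl fun i _ => ?_
  simp only [Pi.add_apply]
  ring

theorem polarNondeg_modelQ (h2 : (2 : F) ≠ 0) (hd : ∀ j, d j ≠ 0) :
    PolarNondeg (modelQ k d) := fun v hv => funext fun i => by
  classical
  have := hv (Pi.single i 1)
  rw [polar_modelQ, Fintype.sum_eq_single i (fun j hj => by simp [hj])] at this
  have hc : coef k d i ≠ 0 := by rcases i with i | i <;> simp [coef, hd]
  simpa [h2, hc] using this

/-- The blockwise action. -/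
def blockLin (p : (Fin k → qAut (sumSq2 F)) × (Fin s → ℤˣ)) :
    (Coord k s → F) →ₗ[F] (Coord k s → F) :=
  LinearMap.pi (Sum.elim (fun x => (LinearMap.proj x.2).comp ((p.1 x.1).1.toLinearMap.comp (blkAt x.1)))
    fun j => ((p.2 j : ℤ) : F) • LinearMap.proj (Sum.inr j))

theorem blockLin_inl (p : (Fin k → qAut (sumSq2 F)) × (Fin s → ℤˣ)) (v : Coord k s → F) (i : Fin k)
    (r : Fin 2) : blockLin p v (Sum.inl (i, r)) = (p.1 i).1 (blkAt i v) r := rfl

theorem blockLin_inr (p : (Fin k → qAut (sumSq2 F)) × (Fin s → ℤˣ)) (v : Coord k s → F) (j : Fin s) :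
    blockLin p v (Sum.inr j) = ((p.2 j : ℤ) : F) * v (Sum.inr j) := rfl

theorem blkAt_blockLin (p : (Fin k → qAut (sumSq2 F)) × (Fin s → ℤˣ)) (v : Coord k s → F) (i : Fin k) :
    blkAt i (blockLin p v) = (p.1 i).1 (blkAt i v) := rfl

theorem blockLin_mul (p p' : (Fin k → qAut (sumSq2 F)) × (Fin s → ℤˣ)) (v : Coord k s → F) :
    blockLin (p * p') v = blockLin p (blockLin p' v) := by
  funext x
  rcases x with ⟨i, r⟩ | j
  · rw [blockLin_inl, blockLin_inl, blkAt_blockLin]; rfl
  · simp only [blockLin_inr, Prod.snd_mul, Pi.mul_apply, Units.val_mul, Int.cast_mul, mul_assoc]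

theorem blockLin_one (v : Coord k s → F) : blockLin (1 : (Fin k → qAut (sumSq2 F)) × (Fin s → ℤˣ)) v = v := by
  funext x
  rcases x with ⟨i, r⟩ | j
  · rw [blockLin_inl]; rfl
  · simp [blockLin_inr]

/-- The blockwise action as a homomorphism. -/
def blockHom : (Fin k → qAut (sumSq2 F)) × (Fin s → ℤˣ) →* qAut (modelQ k d) where
  toFun p := ⟨LinearEquiv.ofLinear (blockLin p) (blockLin p⁻¹)
    (LinearMap.ext fun v => by simp [← blockLin_mul, blockLin_one])
    (LinearMap.ext fun v => by simp [← blockLin_mul, blockLin_one]), fun v => by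
      show modelQ k d (blockLin p v) = _
      simp only [modelQ_apply, blkAt_blockLin, qAut_map, blockLin_inr]
      congr 1
      refine Finset.sum_congr rfl fun j _ => ?_
      rcases Int.units_eq_one_or (p.2 j) with h | h <;> simp [h]⟩
  map_one' := qAut_ext fun v => blockLin_one v
  map_mul' p q := qAut_ext fun v => blockLin_mul p q v

theorem blockHom_apply (p : (Fin k → qAut (sumSq2 F)) × (Fin s → ℤˣ)) (v : Coord k s → F) :
    (blockHom d p).1 v = blockLin p v := rfl

/-- The permutations of coordinates. -/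
def coordPerm (w : Equiv.Perm (Fin k)) : Equiv.Perm (Coord k s) :=
  Equiv.sumCongr (Equiv.prodCongrLeft fun _ => w) (Equiv.refl _)

theorem coef_coordPerm (w : Equiv.Perm (Fin k)) (x : Coord k s) :
    coef k d (coordPerm w x) = coef k d x := by
  rcases x with ⟨i, r⟩ | j <;> rfl

/-- Permutations of the planes. -/
def permHom : Equiv.Perm (Fin k) →* qAut (modelQ k d) where
  toFun w := ⟨LinearEquiv.funCongrLeft F F (coordPerm (s := s) w).symm, fun v => by
    simp only [modelQ, QuadraticMap.weightedSumSquares_apply]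
    refine Fintype.sum_equiv (coordPerm (s := s) w).symm _ _ fun x => ?_
    rw [show coef k d ((coordPerm w).symm x) = coef k d x by
      conv_rhs => rw [← (coordPerm w).apply_symm_apply x, coef_coordPerm]]
    rfl⟩
  map_one' := qAut_ext fun v => by funext x; rcases x with ⟨i, r⟩ | j <;> rfl
  map_mul' w w' := qAut_ext fun v => by funext x; rcases x with ⟨i, r⟩ | j <;> rfl

theorem permHom_inl (w : Equiv.Perm (Fin k)) (v : Coord k s → F) (i : Fin k) (r : Fin 2) :
    (permHom d w).1 v (Sum.inl (i, r)) = v (Sum.inl (w.symm i, r)) := rfl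

theorem permHom_inr (w : Equiv.Perm (Fin k)) (v : Coord k s → F) (j : Fin s) :
    (permHom d w).1 v (Sum.inr j) = v (Sum.inr j) := rfl

theorem permHom_mul_blockHom (w : Equiv.Perm (Fin k)) (p : (Fin k → qAut (sumSq2 F)) × (Fin s → ℤˣ)) :
    permHom d w * blockHom d p = blockHom d (fun i => p.1 (w.symm i), p.2) * permHom d w := by
  refine qAut_ext fun v => ?_
  funext x
  rcases x with ⟨i, r⟩ | j
  · rw [qAut_mul_apply, qAut_mul_apply, permHom_inl, blockHom_apply, blockHom_apply, blockLin_inl,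
      blockLin_inl]
    rfl
  · rfl

theorem permHom_mem_commutator (h2 : (2 : F) ≠ 0) (w : Equiv.Perm (Fin k)) :
    permHom d w ∈ commutator (qAut (modelQ k d)) := by
  classical
  induction w using Equiv.Perm.swap_induction_on with
  | one => simp
  | swap_mul f x y hxy ih =>
    rw [map_mul]
    refine mul_mem ?_ ih
    let v : Fin 2 → Coord k s → F := fun r =>
      Pi.single (Sum.inl (x, r)) 1 - Pi.single (Sum.inl (y, r)) 1
    have hQ : ∀ r, modelQ k d (v r) = 2 := fun r => by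
      have hne : (Sum.inl (x, r) : Coord k s) ≠ Sum.inl (y, r) := by simp [hxy]
      simp only [modelQ, QuadraticMap.weightedSumSquares_apply]
      rw [Fintype.sum_eq_add _ _ hne (fun z hz => by simp [v, hz.1, hz.2])]
      simp [v, hxy, Ne.symm hxy, coef]
      norm_num
    have hp : ∀ r z, QuadraticMap.polar (modelQ k d) z (v r) =
        2 * (z (Sum.inl (x, r)) - z (Sum.inl (y, r))) := fun r z => by
      have hne : (Sum.inl (x, r) : Coord k s) ≠ Sum.inl (y, r) := by simp [hxy]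
      rw [polar_modelQ, Fintype.sum_eq_add _ _ hne (fun z hz => by simp [v, hz.1, hz.2])]
      simp [v, hxy, Ne.symm hxy, coef]
      ring
    have h0 : modelQ k d (v 0) ≠ 0 := hQ 0 ▸ h2
    have h1 : modelQ k d (v 1) ≠ 0 := hQ 1 ▸ h2
    have e : permHom d (Equiv.swap x y) = qRefl _ h0 * qRefl _ h1 := by
      refine qAut_ext fun z => ?_
      rw [qAut_mul_apply, qRefl_apply, qRefl_apply, hQ, hQ, hp, hp, inv_mul_cancel_left₀ h2,
        inv_mul_cancel_left₀ h2]
      funext c
      rcases c with ⟨i, r⟩ | j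
      · rw [permHom_inl, Equiv.symm_swap]
        fin_cases r <;> rcases eq_or_ne i x with rfl | hix <;>
          rcases eq_or_ne i y with rfl | hiy <;>
          simp_all [v, Equiv.swap_apply_def, Ne.symm hxy]
      · simp [permHom_inr, v]
    rw [e]
    exact refl_pair_mem _ h2 h0 h1 (by rw [hQ, hQ])

/-- A plane inside the space. -/
def inj (i : Fin k) (v : Fin 2 → F) : Coord k s → F :=
  Sum.elim (fun x => Pi.single (M := fun _ => Fin 2 → F) i v x.1 x.2) 0

theorem modelQ_inj (i : Fin k) (v : Fin 2 → F) : modelQ k d (inj i v) = sumSq2 F v := by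
  rw [modelQ_apply, Fintype.sum_eq_single i fun j hj => by simp [inj, sumSq2_apply, blkAt_apply, hj]]
  simp [inj, sumSq2_apply, blkAt_apply]

theorem blockHom_plane (i : Fin k) {v : Fin 2 → F} (hv : sumSq2 F v ≠ 0)
    (hv' : modelQ k d (inj i v) ≠ 0) :
    blockHom d (Pi.mulSingle i (qRefl _ hv), 1) = qRefl _ hv' := by
  refine qAut_ext fun x => ?_
  have hp : QuadraticMap.polar (modelQ k d) x (inj i v) = QuadraticMap.polar (sumSq2 F) (blkAt i x) v := by
    rw [polar_modelQ, Fintype.sum_sum_type, Fintype.sum_prod_type,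
      Fintype.sum_eq_single i fun j hj => by simp [inj, hj]]
    simp [inj, coef, polar_sumSq2, blkAt_apply, Fin.sum_univ_two]
    ring
  rw [blockHom_apply, qRefl_apply, modelQ_inj, hp]
  funext c
  rcases c with ⟨j, r⟩ | j
  · rw [blockLin_inl]
    rcases eq_or_ne j i with rfl | hji
    · simp [qRefl_apply, inj, blkAt_apply]
    · simp [inj, hji, blkAt_apply]
  · simp [blockLin_inr, inj]

theorem blockHom_line (h2 : (2 : F) ≠ 0) (j : Fin s)
    (hj : modelQ k d (Pi.single (Sum.inr j) 1) ≠ 0) :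
    blockHom d (1, Pi.mulSingle j (-1)) = qRefl _ hj := by
  classical
  refine qAut_ext fun x => ?_
  have hp : QuadraticMap.polar (modelQ k d) x (Pi.single (Sum.inr j) 1) = 2 * (d j * x (Sum.inr j)) := by
    rw [polar_modelQ, Fintype.sum_eq_single (Sum.inr j) fun z hz => by simp [hz]]
    simp [coef]
  have hQ : modelQ k d (Pi.single (Sum.inr j) 1) = d j := by
    simp only [modelQ, QuadraticMap.weightedSumSquares_apply]
    rw [Fintype.sum_eq_single (Sum.inr j) fun z hz => by simp [hz]]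
    simp [coef]
  have hd : d j ≠ 0 := hQ ▸ hj
  rw [blockHom_apply, qRefl_apply, hQ, hp,
    show (d j)⁻¹ * (2 * (d j * x (Sum.inr j))) = 2 * x (Sum.inr j) by field_simp]
  funext c
  rcases c with ⟨i, r⟩ | j'
  · rw [blockLin_inl]; simp [blkAt_apply]
  · rw [blockLin_inr]
    rcases eq_or_ne j' j with rfl | hjj
    · simp; ring
    · simp [hjj]

theorem modelQ_line (j : Fin s) : modelQ k d (Pi.single (Sum.inr j) 1) = d j := by
  classical
  simp only [modelQ, QuadraticMap.weightedSumSquares_apply]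
  rw [Fintype.sum_eq_single (Sum.inr j) fun z hz => by simp [hz]]
  simp [coef]

theorem blockHom_eq_permHom (hk : 0 < k) {p : (Fin k → qAut (sumSq2 F)) × (Fin s → ℤˣ)}
    {w : Equiv.Perm (Fin k)} (h2 : (2 : F) ≠ 0) (h : blockHom d p = permHom d w) : p = 1 ∧ w = 1 := by
  classical
  have hx : ∀ i v r, (p.1 i).1 (blkAt i v) r = v (Sum.inl (w.symm i, r)) := fun i v r => by
    rw [← blockLin_inl p v i r, ← blockHom_apply d, h, permHom_inl]
  have hw : w = 1 := by
    refine Equiv.ext fun i => ?_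
    by_contra hne
    change ¬ w i = i at hne
    have := hx (w i) (Pi.single (Sum.inl (i, 0)) 1) 0
    have hz : blkAt (w i) (Pi.single (Sum.inl (i, 0)) 1 : Coord k s → F) = 0 := by
      funext r; simp [blkAt_apply, hne]
    rw [hz, map_zero] at this
    simp at this
  subst hw
  refine ⟨Prod.ext (funext fun i => qAut_ext fun y => funext fun r => ?_) (funext fun j => ?_), rfl⟩
  · have := hx i (inj i y) r
    have hy : blkAt i (inj i y : Coord k s → F) = y := by funext r'; simp [inj, blkAt_apply]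
    rw [hy] at this
    rw [this]
    simp [inj, Equiv.Perm.one_def]
  · have := congrArg (fun g : qAut (modelQ k d) => g.1 (Pi.single (Sum.inr j) 1) (Sum.inr j)) h
    simp only [blockHom_apply, blockLin_inr, permHom_inr, Pi.single_eq_same, mul_one] at this
    rcases Int.units_eq_one_or (p.2 j) with he | he
    · simpa using he
    · exfalso
      rw [he] at this
      refine h2 ?_
      simp at this
      linear_combination -this

/-- The rotations commute with the quarter turn. -/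
def rotSub : Subgroup (qAut (sumSq2 F)) where
  carrier := {g | ∀ x, g.1 ![-x 1, x 0] = ![-g.1 x 1, g.1 x 0]}
  one_mem' := fun _ => rfl
  mul_mem' {g g'} hg hg' := fun x => by
    rw [qAut_mul_apply, hg', hg, qAut_mul_apply]
  inv_mem' {g} hg := fun x => by
    apply g.1.injective
    rw [hg, show g.1 ((g⁻¹).1 x) = x from g.1.apply_symm_apply x]
    exact g.1.apply_symm_apply _

variable [Fintype F]

theorem exists_dihedral (h2 : (2 : F) ≠ 0) :
    ∃ (v : Fin 2 → F) (hv : sumSq2 F v ≠ 0) (σ : ℕ) (D : Subgroup (qAut (sumSq2 F))),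
      ¬ IsSquare (sumSq2 F v) ∧
      padicValNat 2 (Fintype.card F * Fintype.card F - 1) = σ + 1 ∧
      Nat.card D = 2 ^ (σ + 1) ∧ refl0 ∈ D ∧ qRefl _ hv ∈ D ∧
      D ≤ Subgroup.closure {refl0, qRefl _ hv} := by
  obtain ⟨A, B, σ, hv, hAB, hns, hv2, hord⟩ := exists_rot h2
  refine ⟨_, hv, σ, ?_⟩
  set a : qAut (sumSq2 F) := refl0
  set b := qRefl _ hv
  set g := a * b with hg
  have ha : a * a = 1 := qRefl_mul_self _ _
  have hb : b * b = 1 := qRefl_mul_self _ _
  set Z := Subgroup.zpowers g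
  have hgZ : g ∈ Z := Subgroup.mem_zpowers g
  have hconj : ∀ z ∈ Z, a * z * a = z⁻¹ := by
    rintro _ ⟨n, rfl⟩
    have h1 : a * g * a⁻¹ = g⁻¹ := by
      rw [hg, mul_inv_rev, inv_eq_of_mul_eq_one_right ha, inv_eq_of_mul_eq_one_right hb,
        ← mul_assoc, ha, one_mul]
    show a * g ^ n * a = (g ^ n)⁻¹
    rw [← inv_zpow, ← h1, conj_zpow, inv_eq_of_mul_eq_one_right ha]
  have hZr : Z ≤ rotSub := Subgroup.zpowers_le.mpr fun x => by
    rw [hg, refl0_mul_apply h2 hAB hv, refl0_mul_apply h2 hAB hv]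
    funext r
    fin_cases r <;> simp <;> ring
  have haZ : a ∉ Z := fun h => by
    have := congrFun (hZr h ![1, 0]) 1
    simp [a, refl0_apply h2] at this
    exact h2 (by linear_combination this)
  let D : Subgroup (qAut (sumSq2 F)) :=
    { carrier := {x | x ∈ Z ∨ x * a ∈ Z}
      one_mem' := Or.inl Z.one_mem
      mul_mem' := by
        rintro x y (hx | hx) (hy | hy)
        · exact Or.inl (mul_mem hx hy)
        · exact Or.inr (by rw [mul_assoc]; exact mul_mem hx hy)
        · refine Or.inr ?_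
          have e : x * y * a = (x * a) * (a * y * a) := by simp [mul_assoc, ← mul_assoc a a, ha]
          rw [e, hconj y hy]; exact mul_mem hx (inv_mem hy)
        · refine Or.inl ?_
          have e : x * y = (x * a) * (a * (y * a) * a) := by
            simp [mul_assoc, ← mul_assoc a a, ha]
          rw [e, hconj _ hy]; exact mul_mem hx (inv_mem hy)
      inv_mem' := by
        rintro x (hx | hx)
        · exact Or.inl (inv_mem hx)
        · refine Or.inr ?_
          have h := hconj _ hx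
          rw [mul_inv_rev, inv_eq_of_mul_eq_one_right ha, mul_assoc, mul_assoc x, ha, mul_one] at h
          rw [← mul_left_cancel h]
          exact hx }
  refine ⟨D, sumSq2_vec hAB ▸ hns, hv2, ?_, Or.inr (ha ▸ Z.one_mem), ?_, ?_⟩
  · have e : Nat.card (Z ⊕ Z) = Nat.card D := by
      refine Nat.card_eq_of_bijective (Sum.elim (fun z => ⟨z.1, Or.inl z.2⟩)
        fun z => ⟨z.1 * a, Or.inr (by rw [mul_assoc, ha, mul_one]; exact z.2)⟩) ⟨?_, ?_⟩
      · rintro (x | x) (y | y) h <;> simp at h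
        · exact congrArg Sum.inl h
        · exact absurd (by rw [show a = y.1⁻¹ * x.1 by rw [h]; group]; exact mul_mem (inv_mem y.2) x.2) haZ
        · exact absurd (by rw [show a = x.1⁻¹ * y.1 by rw [← h]; group]; exact mul_mem (inv_mem x.2) y.2) haZ
        · exact congrArg Sum.inr h
      · rintro ⟨x, hx | hx⟩
        · exact ⟨Sum.inl ⟨x, hx⟩, rfl⟩
        · exact ⟨Sum.inr ⟨x * a, hx⟩, Subtype.ext (by simp [mul_assoc, ha])⟩
    haveI : Finite (qAut (sumSq2 F)) := finite_qAut _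
    rw [← e, Nat.card_sum, Nat.card_zpowers, hord, pow_succ]; ring
  · refine Or.inr ?_
    have : b * a = g⁻¹ := by
      rw [hg, mul_inv_rev, inv_eq_of_mul_eq_one_right ha, inv_eq_of_mul_eq_one_right hb]
    exact this ▸ inv_mem hgZ
  · have hga : g ∈ Subgroup.closure {a, b} :=
      mul_mem (Subgroup.subset_closure (by simp)) (Subgroup.subset_closure (by simp))
    rintro x (hx | hx)
    · exact Subgroup.zpowers_le.mpr hga hx
    · have := mul_mem (Subgroup.zpowers_le.mpr hga hx)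
        (inv_mem (Subgroup.subset_closure (by simp) : a ∈ Subgroup.closure {a, b}))
      rwa [mul_inv_cancel_right] at this

theorem commute_single {i i' : Fin k} (h : i ≠ i') (u u' : qAut (sumSq2 F)) :
    Commute ((Pi.mulSingle i u, 1) : (Fin k → qAut (sumSq2 F)) × (Fin s → ℤˣ)) (Pi.mulSingle i' u', 1) :=
  Commute.prod (Pi.mulSingle_commute (f := fun _ : Fin k => qAut (sumSq2 F)) h u u') (Commute.one_left _)

theorem mul_sq_eq_one {M : Type*} [Monoid M] {p p' : M} (h : Commute p p') (hp : p * p = 1)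
    (hp' : p' * p' = 1) : (p * p') ^ 2 = 1 := by
  rw [h.mul_pow, sq, sq, hp, hp', one_mul]

theorem conj_dihedral {M : Type*} [Group M] {a b a' : M} (ha : a * a = 1) (hb : b * b = 1)
    (c1 : Commute a' a) (c2 : Commute a' b) :
    a' * a * (a * b) ^ 2 * (a' * a)⁻¹ = ((a * b) ^ 2)⁻¹ := by
  have c3 : Commute a' (((a * b) ^ 2)⁻¹) := ((c1.mul_right c2).pow_right 2).inv_right
  have e : a * (a * b) ^ 2 * a⁻¹ = ((a * b) ^ 2)⁻¹ := by
    rw [sq, mul_inv_rev, mul_inv_rev, inv_eq_of_mul_eq_one_right ha,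
      inv_eq_of_mul_eq_one_right hb]
    simp only [← mul_assoc, ha, one_mul]
  calc a' * a * (a * b) ^ 2 * (a' * a)⁻¹ = a' * (a * (a * b) ^ 2 * a⁻¹) * a'⁻¹ := by group
    _ = _ := by rw [e, c3.eq, mul_inv_cancel_right]

theorem mem_of_gens {M : Type*} [Group M] {n m : ℕ} (H : Subgroup ((Fin n → M) × (Fin m → ℤˣ)))
    {a b : M} (ha : ∀ i, (Pi.mulSingle i a, 1) ∈ H) (hb : ∀ i, (Pi.mulSingle i b, 1) ∈ H)
    (hc : ∀ j, (1, Pi.mulSingle j (-1)) ∈ H) (x : (Fin n → M) × (Fin m → ℤˣ))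
    (hx : ∀ i, x.1 i ∈ Subgroup.closure {a, b}) : x ∈ H := by
  rw [show x = (x.1, 1) * (1, x.2) from Prod.ext (mul_one _).symm (one_mul _).symm]
  refine mul_mem ?_ ?_
  · show x.1 ∈ H.comap (MonoidHom.inl _ _)
    refine Subgroup.pi_mem_of_mulSingle_mem x.1 fun i => ?_
    show (x.1 i) ∈ (H.comap (MonoidHom.inl _ _)).comap (MonoidHom.mulSingle (fun _ : Fin n => M) i)
    refine Subgroup.closure_le _ |>.mpr ?_ (hx i)
    rintro _ (rfl | rfl)
    exacts [ha i, hb i]
  · show x.2 ∈ H.comap (MonoidHom.inr _ _)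
    refine Subgroup.pi_mem_of_mulSingle_mem x.2 fun j => ?_
    rcases Int.units_eq_one_or (x.2 j) with h | h
    · rw [h, Pi.mulSingle_one]; exact one_mem _
    · rw [h]; exact hc j

set_option maxHeartbeats 1600000 in
theorem exists_model (h2 : (2 : F) ≠ 0) (hk : 2 ≤ k) :
    ∃ lam : F, ¬ IsSquare lam ∧ ∀ (s : ℕ) (d : Fin s → F), (∀ j, d j = 1 ∨ d j = lam) →
      (Nat.card (qAut (modelQ k d))).factorization 2 =
        k * padicValNat 2 (Fintype.card F * Fintype.card F - 1) + k.factorial.factorization 2 + s →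
      DerivedSylowElem (qAut (modelQ k d)) := by
  classical
  obtain ⟨v, hv, σ, D, hns, hv2, hD, haD, hbD, hDle⟩ := exists_dihedral h2
  refine ⟨sumSq2 F v, hns, fun s d hd hcard => ?_⟩
  have hd0 : ∀ j, d j ≠ 0 := fun j => by rcases hd j with h | h <;> simp [h, hv]
  haveI := finite_qAut (modelQ k d)
  obtain ⟨W₀, S, hS, hgood, hcW⟩ := CfsgLib.SymSylow.exists_sylow_gen 2 k
  set G := qAut (modelQ k d)
  let Φ := blockHom (k := k) d
  let π := permHom (k := k) d
  let P : Subgroup G :=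
    { carrier := {g | ∃ p : (Fin k → qAut (sumSq2 F)) × (Fin s → ℤˣ), (∀ i, p.1 i ∈ D) ∧
        ∃ w ∈ W₀, g = Φ p * π w}
      one_mem' := ⟨1, fun _ => one_mem _, 1, W₀.one_mem, by simp⟩
      mul_mem' := by
        rintro _ _ ⟨a, ha, v, hv, rfl⟩ ⟨b, hb, w, hw, rfl⟩
        refine ⟨a * (fun i => b.1 (v.symm i), b.2), fun i => mul_mem (ha i) (hb _), v * w,
          W₀.mul_mem hv hw, ?_⟩
        rw [map_mul, map_mul, mul_assoc (Φ a), ← mul_assoc (π v), permHom_mul_blockHom]
        simp only [mul_assoc]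
        rfl
      inv_mem' := by
        rintro _ ⟨a, ha, v, hv, rfl⟩
        exact ⟨(fun i => a⁻¹.1 (v⁻¹.symm i), a⁻¹.2), fun i => inv_mem (ha _), v⁻¹, W₀.inv_mem hv, by
          rw [mul_inv_rev, ← map_inv, ← map_inv, permHom_mul_blockHom]⟩ }
  have hPcard : Nat.card P = 2 ^ (k * (σ + 1) + k.factorial.factorization 2 + s) := by
    have hb : Nat.card (((Fin k → D) × (Fin s → ℤˣ)) × W₀) = Nat.card P := by
      refine Nat.card_eq_of_bijective (fun x => (⟨Φ (fun i => (x.1.1 i).1, x.1.2) * π x.2.1,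
        _, fun i => (x.1.1 i).2, x.2.1, x.2.2, rfl⟩ : P)) ⟨?_, ?_⟩
      · intro x y h
        have h1 := congrArg Subtype.val h
        simp only at h1
        have h3 : Φ ((fun i => (y.1.1 i).1, y.1.2)⁻¹ * (fun i => (x.1.1 i).1, x.1.2)) =
            π (y.2.1 * x.2.1⁻¹) := by
          rw [map_mul, map_inv, map_mul, map_inv]
          calc (Φ (fun i => (y.1.1 i).1, y.1.2))⁻¹ * Φ (fun i => (x.1.1 i).1, x.1.2)
              = (Φ (fun i => (y.1.1 i).1, y.1.2))⁻¹ * (Φ (fun i => (x.1.1 i).1, x.1.2) * π x.2.1) *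
                (π x.2.1)⁻¹ := by group
            _ = _ := by rw [h1]; group
        obtain ⟨hz, hw⟩ := blockHom_eq_permHom d (by omega) h2 h3
        have hz' := inv_mul_eq_one.mp hz
        refine Prod.ext (Prod.ext (funext fun i => Subtype.ext ?_) ?_) (Subtype.ext ?_)
        · exact (congrFun (congrArg Prod.fst hz') i).symm
        · exact (congrArg Prod.snd hz').symm
        · exact (mul_inv_eq_one.mp hw).symm
      · rintro ⟨_, a, ha, w, hw, rfl⟩
        exact ⟨((fun i => ⟨a.1 i, ha i⟩, a.2), ⟨w, hw⟩), rfl⟩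
    rw [← hb, Nat.card_prod, Nat.card_prod, Nat.card_pi, Nat.card_pi, Finset.prod_const, Finset.card_univ,
      Fintype.card_fin, Finset.prod_const, Finset.card_univ, Fintype.card_fin, hD, hcW, ← pow_mul,
      Nat.card_eq_fintype_card, show Fintype.card ℤˣ = 2 from rfl, pow_add, pow_add, mul_comm (σ + 1)]
    ring
  -- generators
  let pa : Fin k → (Fin k → qAut (sumSq2 F)) × (Fin s → ℤˣ) := fun i => (Pi.mulSingle i refl0, 1)
  let pb : Fin k → (Fin k → qAut (sumSq2 F)) × (Fin s → ℤˣ) := fun i => (Pi.mulSingle i (qRefl _ hv), 1)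
  let pc : Fin s → (Fin k → qAut (sumSq2 F)) × (Fin s → ℤˣ) := fun j => (1, Pi.mulSingle j (-1))
  let RA : Set ((Fin k → qAut (sumSq2 F)) × (Fin s → ℤˣ)) := Set.range pa ∪ {p | ∃ j, d j = 1 ∧ p = pc j}
  let RB : Set ((Fin k → qAut (sumSq2 F)) × (Fin s → ℤˣ)) :=
    Set.range pb ∪ {p | ∃ j, d j = sumSq2 F v ∧ p = pc j}
  let i0 : Fin k := ⟨0, by omega⟩
  let i1 : Fin k := ⟨1, by omega⟩
  let a := Φ (pa i0)
  let b := Φ (pb i0)
  have hpaP : ∀ p ∈ RA ∪ RB, Φ p ∈ P := by
    intro p hp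
    refine ⟨p, fun i => ?_, 1, W₀.one_mem, by simp⟩
    rcases hp with (⟨i', rfl⟩ | ⟨j, -, rfl⟩) | ⟨i', rfl⟩ | ⟨j, -, rfl⟩
    · rcases eq_or_ne i i' with rfl | h
      · simpa [pa] using haD
      · simp [pa, h]
    · exact one_mem _
    · rcases eq_or_ne i i' with rfl | h
      · simpa [pb] using hbD
      · simp [pb, h]
    · exact one_mem _
  have hcl : ∀ u : qAut (sumSq2 F), u * u = 1 → ∀ i, (Pi.mulSingle i u : Fin k → qAut (sumSq2 F)) *
      Pi.mulSingle i u = 1 := fun u hu i => by rw [← Pi.mulSingle_mul, hu, Pi.mulSingle_one]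
  have hinv : ∀ p ∈ RA ∪ RB, p * p = 1 := by
    rintro p ((⟨i', rfl⟩ | ⟨j, -, rfl⟩) | ⟨i', rfl⟩ | ⟨j, -, rfl⟩)
    · exact Prod.ext (hcl refl0 (qRefl_mul_self _ _) i') (one_mul 1)
    · exact Prod.ext (one_mul 1) (by simp [pc, ← Pi.mulSingle_mul])
    · exact Prod.ext (hcl _ (qRefl_mul_self _ _) i') (one_mul 1)
    · exact Prod.ext (one_mul 1) (by simp [pc, ← Pi.mulSingle_mul])
  have hcomm : ∀ (u : qAut (sumSq2 F)) (i i' : Fin k), Commute
      ((Pi.mulSingle i u, 1) : (Fin k → qAut (sumSq2 F)) × (Fin s → ℤˣ)) (Pi.mulSingle i' u, 1) := by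
    intro u i i'
    rcases eq_or_ne i i' with rfl | h
    · exact Commute.refl _
    · exact commute_single h u u
  have hQa : ∀ i, modelQ k d (inj i e0) ≠ 0 := fun i => by
    rw [modelQ_inj]; exact sumSq2_e0_ne
  have hQb : ∀ i, modelQ k d (inj i v) ≠ 0 := fun i => by rw [modelQ_inj]; exact hv
  have hQc : ∀ j, modelQ k d (Pi.single (Sum.inr j) 1) ≠ 0 := fun j => by rw [modelQ_line]; exact hd0 j
  have hrefl : ∀ (p : (Fin k → qAut (sumSq2 F)) × (Fin s → ℤˣ)),
      (p ∈ RA → ∃ (u : Coord k s → F) (hu : modelQ k d u ≠ 0), modelQ k d u = 1 ∧ Φ p = qRefl _ hu) ∧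
      (p ∈ RB → ∃ (u : Coord k s → F) (hu : modelQ k d u ≠ 0), modelQ k d u = sumSq2 F v ∧
        Φ p = qRefl _ hu) := by
    refine fun p => ⟨?_, ?_⟩
    · rintro (⟨i, rfl⟩ | ⟨j, hj, rfl⟩)
      · exact ⟨_, hQa i, by rw [modelQ_inj, sumSq2_e0], blockHom_plane d i sumSq2_e0_ne (hQa i)⟩
      · exact ⟨_, hQc j, by rw [modelQ_line, hj], blockHom_line d h2 j (hQc j)⟩
    · rintro (⟨i, rfl⟩ | ⟨j, hj, rfl⟩)
      · exact ⟨_, hQb i, by rw [modelQ_inj], blockHom_plane d i hv (hQb i)⟩
      · exact ⟨_, hQc j, by rw [modelQ_line, hj], blockHom_line d h2 j (hQc j)⟩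
  let T : Set G := (π '' S) ∪ {g | ∃ p ∈ RA, g = Φ (p * pa i0)} ∪ {g | ∃ p ∈ RB, g = Φ (p * pb i0)} ∪
    {(a * b) ^ 2}
  let Gens : Set G := (π '' S) ∪ Φ '' (RA ∪ RB)
  have ha0 : pa i0 ∈ RA := Or.inl ⟨i0, rfl⟩
  have hb0 : pb i0 ∈ RB := Or.inl ⟨i0, rfl⟩
  have ha : a * a = 1 := by rw [← map_mul, hinv _ (Or.inl ha0), map_one]
  have hb : b * b = 1 := by rw [← map_mul, hinv _ (Or.inr hb0), map_one]
  have hPle : P ≤ Subgroup.closure Gens := by
    rintro _ ⟨p, hp, w, hw, rfl⟩
    refine mul_mem ?_ ?_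
    · refine mem_of_gens ((Subgroup.closure Gens).comap Φ) (fun i => ?_) (fun i => ?_) (fun j => ?_) p
        fun i => hDle (hp i)
      · exact Subgroup.subset_closure (Or.inr ⟨pa i, Or.inl (Or.inl ⟨i, rfl⟩), rfl⟩)
      · exact Subgroup.subset_closure (Or.inr ⟨pb i, Or.inr (Or.inl ⟨i, rfl⟩), rfl⟩)
      · rcases hd j with h' | h'
        · exact Subgroup.subset_closure (Or.inr ⟨pc j, Or.inl (Or.inr ⟨j, h', rfl⟩), rfl⟩)
        · exact Subgroup.subset_closure (Or.inr ⟨pc j, Or.inr (Or.inr ⟨j, h', rfl⟩), rfl⟩)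
    · have h' : π w ∈ W₀.map π := Subgroup.mem_map_of_mem _ hw
      rw [← hS, MonoidHom.map_closure] at h'
      exact Subgroup.closure_mono Set.subset_union_left h'
  have hπP : ∀ w ∈ S, π w ∈ P := fun w hw =>
    ⟨1, fun _ => one_mem _, w, hS ▸ Subgroup.subset_closure hw, by simp⟩
  have hTP : ∀ t ∈ T, t ∈ P := by
    rintro _ (((⟨w, hw, rfl⟩ | ⟨p, hp, rfl⟩) | ⟨p, hp, rfl⟩) | rfl)
    · exact hπP w hw
    · rw [map_mul]; exact mul_mem (hpaP p (Or.inl hp)) (hpaP _ (Or.inl ha0))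
    · rw [map_mul]; exact mul_mem (hpaP p (Or.inr hp)) (hpaP _ (Or.inr hb0))
    · exact pow_mem (mul_mem (hpaP _ (Or.inl ha0)) (hpaP _ (Or.inr hb0))) 2
  have hTD : ∀ t ∈ T, t ∈ commutator G := by
    rintro _ (((⟨w, hw, rfl⟩ | ⟨p, hp, rfl⟩) | ⟨p, hp, rfl⟩) | rfl)
    · exact permHom_mem_commutator d h2 w
    · obtain ⟨u, hu, hu1, e⟩ := (hrefl p).1 hp
      obtain ⟨u', hu', hu1', e'⟩ := (hrefl _).1 ha0
      rw [map_mul, e, e']
      exact refl_pair_mem _ h2 hu hu' (by rw [hu1, hu1'])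
    · obtain ⟨u, hu, hu1, e⟩ := (hrefl p).2 hp
      obtain ⟨u', hu', hu1', e'⟩ := (hrefl _).2 hb0
      rw [map_mul, e, e']
      exact refl_pair_mem _ h2 hu hu' (by rw [hu1, hu1'])
    · have := Subgroup.commutator_mem_commutator (H₁ := ⊤) (H₂ := ⊤)
        (Subgroup.mem_top a) (Subgroup.mem_top b)
      rw [commutatorElement_def, inv_eq_of_mul_eq_one_right ha, inv_eq_of_mul_eq_one_right hb] at this
      rw [sq, ← mul_assoc]
      exact this
  have hsq : ∀ t ∈ T, t ^ 2 = 1 ∨ ∃ x ∈ T, x * t * x⁻¹ = t⁻¹ := by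
    rintro _ (((⟨w, hw, rfl⟩ | ⟨p, hp, rfl⟩) | ⟨p, hp, rfl⟩) | rfl)
    · exact Or.inl ((map_pow π w 2).symm.trans ((congrArg π (hgood w hw).1).trans (map_one π)))
    · have hcm : Commute p (pa i0) := by
        rcases hp with ⟨i, rfl⟩ | ⟨j, -, rfl⟩
        · exact hcomm refl0 i i0
        · exact Commute.prod (Commute.one_left _) (Commute.one_right _)
      exact Or.inl ((map_pow Φ _ 2).symm.trans ((congrArg Φ
        (mul_sq_eq_one hcm (hinv p (Or.inl hp)) (hinv _ (Or.inl ha0)))).trans (map_one Φ)))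
    · have hcm : Commute p (pb i0) := by
        rcases hp with ⟨i, rfl⟩ | ⟨j, -, rfl⟩
        · exact hcomm (qRefl _ hv) i i0
        · exact Commute.prod (Commute.one_left _) (Commute.one_right _)
      exact Or.inl ((map_pow Φ _ 2).symm.trans ((congrArg Φ
        (mul_sq_eq_one hcm (hinv p (Or.inr hp)) (hinv _ (Or.inr hb0)))).trans (map_one Φ)))
    · have h10 : i1 ≠ i0 := by simp [i0, i1, Fin.ext_iff]
      refine Or.inr ⟨Φ (pa i1 * pa i0), Or.inl (Or.inl (Or.inr ⟨_, Or.inl ⟨i1, rfl⟩, rfl⟩)), ?_⟩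
      rw [map_mul]
      exact conj_dihedral ha hb ((hcomm refl0 i1 i0).map Φ) ((commute_single h10 _ _).map Φ)
  have hgen : ∀ g ∈ Gens, g ∈ T ∨ g * a ∈ T ∨ g * b ∈ T := by
    rintro _ (h | ⟨p, hp | hp, rfl⟩)
    · exact Or.inl (Or.inl (Or.inl (Or.inl h)))
    · exact Or.inr (Or.inl (Or.inl (Or.inl (Or.inr ⟨p, hp, (map_mul Φ _ _).symm⟩))))
    · exact Or.inr (Or.inr (Or.inl (Or.inr ⟨p, hp, (map_mul Φ _ _).symm⟩)))
  obtain ⟨K, hKP, hKD, hle, hK⟩ := exists_half a b ha hb T Gens P hPle hTP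
    (hpaP _ (Or.inl ha0)) (hpaP _ (Or.inr hb0)) hTD (Or.inr rfl) hsq hgen
  refine derivedSylowElem_of_half P hPcard ?_ ?_ hKP hKD hle hK
  · rw [hcard, hv2]
  · refine index_commutator_odd (modelQ k d) h2 (polarNondeg_modelQ d h2 hd0) ?_
    simp [Module.finrank_pi, Coord]
    omega

end CfsgLib.Classical.SylowTwo
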