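/-
Sylow 2-subgroups of the derived subgroups of the orthogonal groups have elementary abelian abelianisations.
-/
import Cfsg.Agent.Lib.Classical.SylowTwo.Model
import Cfsg.Agent.Lib.Classical.QuadPOmega
import Cfsg.Agent.Lib.KnownSimple.Forms.Classify
import Mathlib.NumberTheory.Multiplicity

set_option autoImplicit false

namespace CfsgLib.Classical.SylowTwo

open Matrix

universe u

variable {F : Type u} [Field F]

/-- A similitude conjugates the automorphism groups. -/
def qAutSimilar {V V' : Type*} [AddCommGroup V] [Module F V] [AddCommGroup V'] [Module F V']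
    {Q : QuadraticForm F V} {Q' : QuadraticForm F V'} (e : V ≃ₗ[F] V') {t : F} (ht : t ≠ 0)
    (he : ∀ v, Q' (e v) = t * Q v) : qAut Q ≃* qAut Q' where
  toFun g := ⟨e.symm.trans (g.1.trans e), fun v => by
    simp only [LinearEquiv.trans_apply, he, qAut_map]
    rw [← he, e.apply_symm_apply]⟩
  invFun g := ⟨e.trans (g.1.trans e.symm), fun v => by
    refine mul_left_cancel₀ ht ?_
    simp only [LinearEquiv.trans_apply]
    rw [← he, ← he, e.apply_symm_apply, qAut_map]⟩
  left_inv g := qAut_ext fun v => by simp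
  right_inv g := qAut_ext fun v => by simp
  map_mul' g h := qAut_ext fun v => by
    simp only [Subgroup.coe_mul, LinearEquiv.trans_apply, LinearEquiv.mul_apply]
    rw [e.symm_apply_apply]

variable {ι : Type} [Fintype ι] [DecidableEq ι]

theorem polarGram_form (Q : QuadraticForm F (ι → F)) (u v : ι → F) :
    QuadraticMap.polar Q u v = u ⬝ᵥ (polarGram Q *ᵥ v) := by
  rw [show polarGram Q = LinearMap.BilinForm.toMatrix' (QuadraticMap.polarBilin Q) from rfl,
    ← Matrix.toBilin'_apply', Matrix.toBilin'_toMatrix']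
  rfl

theorem polarGram_transpose (Q : QuadraticForm F (ι → F)) : (polarGram Q)ᵀ = polarGram Q :=
  Matrix.ext fun _ _ => QuadraticMap.polar_comm _ _ _

theorem det_polarGram_ne (Q : QuadraticForm F (ι → F)) (hQ : PolarNondeg Q) :
    (polarGram Q).det ≠ 0 := fun h => by
  obtain ⟨v, hv0, hv⟩ := Matrix.exists_mulVec_eq_zero_iff.2 h
  refine hv0 (hQ v fun w => ?_)
  rw [QuadraticMap.polar_comm, polarGram_form, hv, dotProduct_zero]

variable [Fintype F]

theorem exists_equiv_of_congr (h2 : (2 : F) ≠ 0) (Q : QuadraticForm F (ι → F)) {k s : ℕ}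
    (d : Fin s → F) {t : F} (ht : t ≠ 0)
    (h : CfsgLib.Forms.Congr (polarGram Q) (t • Matrix.diagonal fun x => 2 * coef k d x)) :
    Nonempty (qAut (modelQ k d) ≃* qAut Q) := by
  obtain ⟨x, y, hxy, hyx, hB⟩ := h
  let e : (Coord k s → F) ≃ₗ[F] (ι → F) :=
    LinearEquiv.ofLinearMap (Matrix.mulVecLin x) (Matrix.mulVecLin y)
      (by rw [← Matrix.mulVecLin_mul, hxy, Matrix.mulVecLin_one])
      (by rw [← Matrix.mulVecLin_mul, hyx, Matrix.mulVecLin_one])
  refine ⟨qAutSimilar e ht fun v => mul_left_cancel₀ h2 ?_⟩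
  show 2 * Q (x *ᵥ v) = _
  have hh : (x *ᵥ v) ⬝ᵥ (polarGram Q *ᵥ (x *ᵥ v)) = v ⬝ᵥ ((xᵀ * polarGram Q * x) *ᵥ v) := by
    rw [← mulVec_mulVec, ← mulVec_mulVec, dotProduct_mulVec v, vecMul_transpose]
  rw [← quad_polar_self, polarGram_form, hh, hB, smul_mulVec, dotProduct_smul, smul_eq_mul]
  simp only [dotProduct, mulVec_diagonal, modelQ, QuadraticMap.weightedSumSquares_apply, smul_eq_mul,
    Finset.mul_sum]
  exact Finset.sum_congr rfl fun i _ => by ring

theorem derived_of_equiv (Q : QuadraticForm F (ι → F)) {k s : ℕ} (d : Fin s → F)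
    (e : qAut (modelQ k d) ≃* qAut Q) (h : DerivedSylowElem (qAut (modelQ k d))) :
    DerivedSylowElem (Cfsg.isometryGroup F ⇑Q) := by
  haveI := finite_qAut (modelQ k d)
  exact h.of_equiv ((isoEquiv Q).trans e.symm)

theorem v_prod (h2 : (2 : F) ≠ 0) : ∀ m : ℕ,
    (∏ i ∈ Finset.range m, (Fintype.card F ^ (2 * (i + 1)) - 1)).factorization 2 =
      m * padicValNat 2 (Fintype.card F * Fintype.card F - 1) + m.factorial.factorization 2
  | 0 => by simp
  | m + 1 => by
    have : Fact (Nat.Prime 2) := ⟨Nat.prime_two⟩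
    set q := Fintype.card F
    have hq1 : 1 < q := Fintype.one_lt_card
    have hq2 : ¬ 2 ∣ q := by
      have := Nat.odd_iff.1 (odd_card_of_two_ne_zero h2); omega
    have hne : ∀ i : ℕ, q ^ (2 * (i + 1)) - 1 ≠ 0 := fun i =>
      (Nat.sub_pos_of_lt (Nat.one_lt_pow (by omega) hq1)).ne'
    have h := padicValNat.pow_two_sub_pow (x := q) (y := 1) hq1 (by omega) hq2
      (n := 2 * (m + 1)) (by omega) (even_two_mul _)
    rw [one_pow, padicValNat.mul (by norm_num) (by omega), padicValNat.self (by norm_num)] at h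
    have hqq : q * q - 1 = (q + 1) * (q - 1) := by rw [← Nat.sq_sub_sq]; simp [sq]
    rw [Finset.prod_range_succ, Nat.factorization_mul (Finset.prod_ne_zero_iff.mpr fun i _ => hne i)
      (hne m), Finsupp.add_apply, v_prod h2 m, Nat.factorial_succ,
      Nat.factorization_mul (by omega) m.factorial_ne_zero, Finsupp.add_apply,
      Nat.factorization_def _ Nat.prime_two, Nat.factorization_def _ Nat.prime_two,
      Nat.factorization_def _ Nat.prime_two, hqq, padicValNat.mul (by omega) (by omega)]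
    rw [Nat.add_one_mul m]
    omega

theorem v_pm (h2 : (2 : F) ≠ 0) {n : ℕ} (hn : 1 ≤ n) :
    (Fintype.card F ^ n % 4 = 1 → (Fintype.card F ^ n + 1).factorization 2 = 1 ∧
      (Fintype.card F ^ n - 1).factorization 2 + 1 =
        padicValNat 2 (Fintype.card F * Fintype.card F - 1) + n.factorization 2) ∧
    (Fintype.card F ^ n % 4 = 3 → (Fintype.card F ^ n - 1).factorization 2 = 1 ∧
      (Fintype.card F ^ n + 1).factorization 2 + 1 =
        padicValNat 2 (Fintype.card F * Fintype.card F - 1) + n.factorization 2) := by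
  have : Fact (Nat.Prime 2) := ⟨Nat.prime_two⟩
  set q := Fintype.card F
  have hq1 : 1 < q := Fintype.one_lt_card
  have hq2 : ¬ 2 ∣ q := by
    have := Nat.odd_iff.1 (odd_card_of_two_ne_zero h2); omega
  have hqn : 1 < q ^ n := Nat.one_lt_pow (by omega) hq1
  have hsq : ∀ a : ℕ, a * a - 1 = (a + 1) * (a - 1) := fun a => by rw [← Nat.sq_sub_sq]; simp [sq]
  have h := padicValNat.pow_two_sub_pow (x := q) (y := 1) hq1 (by omega) hq2
    (n := 2 * n) (by omega) (even_two_mul _)
  rw [one_pow, padicValNat.mul (by norm_num) (by omega), padicValNat.self (by norm_num),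
    show q ^ (2 * n) = q ^ n * q ^ n by rw [two_mul, pow_add], hsq,
    padicValNat.mul (by omega) (by omega)] at h
  rw [hsq, padicValNat.mul (by omega) (by omega), Nat.factorization_def _ Nat.prime_two,
    Nat.factorization_def _ Nat.prime_two, Nat.factorization_def _ Nat.prime_two]
  have hone : ∀ a : ℕ, a % 4 = 2 → padicValNat 2 a = 1 := fun a ha => by
    obtain ⟨c, rfl⟩ : ∃ c, a = 2 * (2 * c + 1) := ⟨a / 4, by omega⟩
    rw [padicValNat.mul (by norm_num) (by omega), padicValNat.self (by norm_num),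
      padicValNat.eq_zero_of_not_dvd (by omega)]
  constructor <;> intro h4
  · have h1 := hone (q ^ n + 1) (by omega)
    omega
  · have h1 := hone (q ^ n - 1) (by omega)
    omega

theorem det_diag {k s : ℕ} (d : Fin s → F) :
    (Matrix.diagonal fun x => 2 * coef k d x).det = 2 ^ (2 * k + s) * ∏ j, d j := by
  rw [Matrix.det_diagonal, Finset.prod_mul_distrib, Finset.prod_const, Finset.card_univ,
    Fintype.card_sum, Fintype.card_prod, Fintype.card_fin, Fintype.card_fin, Fintype.card_fin,
    mul_comm k, Fintype.prod_sum_type]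
  simp [coef]

theorem derived_odd (h2 : (2 : F) ≠ 0) {Q : QuadraticForm F (ι → F)} (hQ : PolarNondeg Q) {m : ℕ}
    (hm : 2 ≤ m) (hι : Fintype.card ι = 2 * m + 1)
    (hcard : (Nat.card (qAut Q)).factorization 2 =
      m * padicValNat 2 (Fintype.card F * Fintype.card F - 1) + m.factorial.factorization 2 + 1) :
    DerivedSylowElem (Cfsg.isometryGroup F ⇑Q) := by
  obtain ⟨lam, -, h⟩ := exists_model (F := F) h2 hm
  let d : Fin 1 → F := fun _ => 1
  obtain ⟨t, ht, hC⟩ := CfsgLib.Forms.formEquiv_of_odd h2 (polarGram_transpose Q)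
    (B := Matrix.diagonal fun x => 2 * coef m d x) (Matrix.diagonal_transpose _)
    (Fintype.equivOfCardEq (by simp [hι, mul_comm])) (det_polarGram_ne Q hQ)
    (by rw [det_diag]; simp [d, h2]) ⟨m, hι⟩
  obtain ⟨e⟩ := exists_equiv_of_congr h2 Q d ht hC
  exact derived_of_equiv Q d e (h 1 d (fun _ => Or.inl rfl) (by rw [Nat.card_congr e.toEquiv, hcard]))

theorem derived_even (h2 : (2 : F) ≠ 0) {Q : QuadraticForm F (ι → F)} (hQ : PolarNondeg Q) {M : ℕ}
    (hM : 1 ≤ M) (hι : Fintype.card ι = 2 * (M + 1))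
    (hM2 : ¬ IsSquare (polarGram Q).det → 2 ≤ M)
    (hyes : IsSquare (polarGram Q).det → (Nat.card (qAut Q)).factorization 2 =
      (M + 1) * padicValNat 2 (Fintype.card F * Fintype.card F - 1) + (M + 1).factorial.factorization 2)
    (hno : ¬ IsSquare (polarGram Q).det → (Nat.card (qAut Q)).factorization 2 =
      M * padicValNat 2 (Fintype.card F * Fintype.card F - 1) + M.factorial.factorization 2 + 2) :
    DerivedSylowElem (Cfsg.isometryGroup F ⇑Q) := by
  set A := polarGram Q
  have hA0 : A.det ≠ 0 := det_polarGram_ne Q hQ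
  have main : ∀ (k s : ℕ) (d : Fin s → F), (∀ j, d j ≠ 0) → Fintype.card ι = 2 * k + s →
      IsSquare ((2 ^ (2 * k + s) * ∏ j, d j) * A.det) → Nonempty (qAut (modelQ k d) ≃* qAut Q) := by
    intro k s d hd hc hs
    obtain ⟨r, hr⟩ := hs
    rw [← det_diag] at hr
    have hB0 : (Matrix.diagonal fun x => 2 * coef k d x).det ≠ 0 := by
      rw [det_diag]; exact mul_ne_zero (pow_ne_zero _ h2) (Finset.prod_ne_zero_iff.mpr fun j _ => hd j)
    refine exists_equiv_of_congr h2 Q d one_ne_zero ?_
    rw [one_smul]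
    refine CfsgLib.Forms.congr_of_det h2 (polarGram_transpose Q) (Matrix.diagonal_transpose _)
      (Fintype.equivOfCardEq (by simp [hc, mul_comm])) hA0 (t := r / A.det) ?_ ?_
    · refine div_ne_zero ?_ hA0
      rintro rfl
      exact mul_ne_zero hB0 hA0 (by rw [hr, mul_zero])
    · rw [div_pow, sq r, ← hr]
      field_simp
      rfl
  by_cases hs : IsSquare A.det
  · obtain ⟨lam, -, h⟩ := exists_model (F := F) h2 (show 2 ≤ M + 1 by omega)
    let d : Fin 0 → F := Fin.elim0
    obtain ⟨e⟩ := main (M + 1) 0 d (fun j => j.elim0) (by omega) (by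
      simp only [Fin.prod_univ_zero, mul_one]
      exact (show IsSquare ((2 : F) ^ (2 * (M + 1) + 0)) from ⟨2 ^ (M + 1), by ring⟩).mul hs)
    exact derived_of_equiv Q d e (h 0 d (fun j => j.elim0) (by rw [Nat.card_congr e.toEquiv, hyes hs]; rfl))
  · obtain ⟨lam, hlam, h⟩ := exists_model (F := F) h2 (hM2 hs)
    have hlam0 : lam ≠ 0 := by rintro rfl; exact hlam IsSquare.zero
    let d : Fin 2 → F := ![1, lam]
    obtain ⟨e⟩ := main M 2 d (fun j => by fin_cases j <;> simp [d, hlam0]) (by omega) (by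
      simp only [Fin.prod_univ_two, d, Matrix.cons_val_zero, Matrix.cons_val_one, one_mul]
      rw [mul_assoc]
      exact (show IsSquare ((2 : F) ^ (2 * M + 2)) from ⟨2 ^ (M + 1), by ring⟩).mul (isSquare_mul_of_not_isSquare h2 hlam hs))
    exact derived_of_equiv Q d e (h 2 d (fun j => by fin_cases j <;> simp [d])
      (by rw [Nat.card_congr e.toEquiv, hno hs]))

theorem v_factor {a b c : ℕ} (k : ℕ) (hb : b ≠ 0) (hc : c ≠ 0) (ha : ¬ 2 ∣ a) :
    (2 * a ^ k * b * c).factorization 2 = 1 + b.factorization 2 + c.factorization 2 := by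
  have ha0 : a ≠ 0 := by rintro rfl; simp at ha
  rw [Nat.factorization_mul (by positivity) hc, Nat.factorization_mul (by positivity) hb,
    Nat.factorization_mul (by norm_num) (by positivity), Nat.factorization_pow]
  simp [Nat.prime_two.factorization_self, Nat.factorization_eq_zero_of_not_dvd ha]

theorem derived_qOdd (h2 : (2 : F) ≠ 0) {m : ℕ} (hm : 2 ≤ m) :
    DerivedSylowElem (Cfsg.isometryGroup F (Cfsg.quadFormOdd m F)) := by
  rw [← coe_qOdd]
  refine derived_odd h2 (polarNondeg_qOdd h2 m) hm (by simp [OddI]; omega) ?_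
  have hne : ∀ i, Fintype.card F ^ (2 * (i + 1)) - 1 ≠ 0 := fun i =>
    (Nat.sub_pos_of_lt (Nat.one_lt_pow (by omega) Fintype.one_lt_card)).ne'
  rw [card_qAut_qOdd, card_qAut_line h2, ← mul_one (2 * Fintype.card F ^ m ^ 2),
    v_factor _ one_ne_zero (Finset.prod_ne_zero_iff.mpr fun i _ => hne i)
      (by have := Nat.odd_iff.1 (odd_card_of_two_ne_zero h2); omega), v_prod h2]
  simp
  ring

theorem derived_qPlus (h2 : (2 : F) ≠ 0) {m : ℕ} (hm : 1 ≤ m) (hm' : Even m ∨ 4 ≤ m) :
    DerivedSylowElem (Cfsg.isometryGroup F (Cfsg.quadFormPlus m F)) := by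
  have hm2 : 2 ≤ m := by
    rcases hm' with ⟨c, hc⟩ | h <;> omega
  obtain ⟨M, rfl⟩ : ∃ M, m = M + 1 := ⟨m - 1, by omega⟩
  rw [← coe_qPlus]
  have hdet : IsSquare (polarGram (qPlus (M + 1) F)).det ↔ Fintype.card F ^ (M + 1) % 4 = 1 := by
    rw [det_polarGram_qPlus, isSquare_neg_one_pow_iff h2]
  have hq1 : 1 < Fintype.card F ^ (M + 1) := Nat.one_lt_pow (by omega) Fintype.one_lt_card
  have hne : ∀ i, Fintype.card F ^ (2 * (i + 1)) - 1 ≠ 0 := fun i =>
    (Nat.sub_pos_of_lt (Nat.one_lt_pow (by omega) Fintype.one_lt_card)).ne'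
  have hc : (Nat.card (qAut (qPlus (M + 1) F))).factorization 2 =
      1 + (Fintype.card F ^ (M + 1) - 1).factorization 2 +
        (M * padicValNat 2 (Fintype.card F * Fintype.card F - 1) + M.factorial.factorization 2) := by
    rw [card_qAut_qPlus, card_qAut_plus, v_factor _ (by omega)
      (Finset.prod_ne_zero_iff.mpr fun i _ => hne i)
      (by have := Nat.odd_iff.1 (odd_card_of_two_ne_zero h2); omega), v_prod h2]
  refine derived_even (M := M) h2 (polarNondeg_qPlus _) (by omega) (by simp; omega) (fun hs => ?_)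
    (fun hs => ?_) (fun hs => ?_)
  · rcases hm' with ⟨c, hc'⟩ | h
    · exfalso
      refine hs (hdet.mpr ?_)
      rw [hc', pow_add]
      have hodd := Nat.odd_iff.1 ((odd_card_of_two_ne_zero h2).pow (n := c) : Odd (Fintype.card F ^ c))
      rw [Nat.mul_mod]
      rcases (by omega : Fintype.card F ^ c % 4 = 1 ∨ Fintype.card F ^ c % 4 = 3) with h | h <;> rw [h]
    · omega
  · have h := ((v_pm h2 (n := M + 1) (by omega)).1 (hdet.mp hs)).2
    rw [hc, Nat.factorial_succ, Nat.factorization_mul (by omega) M.factorial_ne_zero, Finsupp.add_apply,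
      Nat.add_one_mul M]
    omega
  · have h4 := (pow_mod_four h2 (M + 1)).resolve_left (hdet.not.mp hs)
    have h := ((v_pm h2 (n := M + 1) (by omega)).2 h4).1
    rw [hc]
    omega

theorem derived_qMinus (h2 : (2 : F) ≠ 0) {a b : F} (hab : BinAniso a b) {M : ℕ} (hM : 2 ≤ M) :
    DerivedSylowElem (Cfsg.isometryGroup F (Cfsg.quadFormMinus M F a b)) := by
  rw [← coe_qExt_qBin]
  have hdet := isSquare_det_polarGram_qExt_qBin h2 hab M
  have hne : ∀ i, Fintype.card F ^ (2 * (i + 1)) - 1 ≠ 0 := fun i =>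
    (Nat.sub_pos_of_lt (Nat.one_lt_pow (by omega) Fintype.one_lt_card)).ne'
  have hc : (Nat.card (qAut (qExt M (qBin a b)))).factorization 2 =
      1 + (Fintype.card F ^ (M + 1) + 1).factorization 2 +
        (M * padicValNat 2 (Fintype.card F * Fintype.card F - 1) + M.factorial.factorization 2) := by
    rw [card_qAut_minus hab, v_factor _ (by omega) (Finset.prod_ne_zero_iff.mpr fun i _ => hne i)
      (by have := Nat.odd_iff.1 (odd_card_of_two_ne_zero h2); omega), v_prod h2]
  refine derived_even (M := M) h2 (polarNondeg_qExt (polarNondeg_qBin hab) M) (by omega) (by simp; omega)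
    (fun _ => hM) (fun hs => ?_) (fun hs => ?_)
  · have h := ((v_pm h2 (n := M + 1) (by omega)).2 (hdet.mp hs)).2
    rw [hc, Nat.factorial_succ, Nat.factorization_mul (by omega) M.factorial_ne_zero, Finsupp.add_apply,
      Nat.add_one_mul M]
    omega
  · have h4 := (pow_mod_four h2 (M + 1)).resolve_right (hdet.not.mp hs)
    have h := ((v_pm h2 (n := M + 1) (by omega)).1 h4).1
    rw [hc]
    omega

end CfsgLib.Classical.SylowTwo
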